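import Groth.Prelude.Def_W4c5stacksedinertiaGpd
import Mathlib.GroupTheory.GroupAction.CardCommute
import Mathlib.GroupTheory.GroupAction.Quotient
import Mathlib.Data.Fin.Tuple.Basic
import Mathlib.LinearAlgebra.Eigenspace.Basic
import Mathlib.RingTheory.Polynomial.Pochhammer
import Mathlib.Data.Nat.Choose.Sum
import Mathlib.Tactic

/-! The inertia operators satisfy `I_{r+1} = (I - r) I_r`. -/

open W4c5stacksedinertia

namespace Groth.Agent.Inertia

/-- Transport along a bijection. -/
noncomputable def ofEquiv (G : Type) [Group G] [Finite G] : (FinGrp.of G).carrier ≃* G :=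
  (Nat.equivFinOfCardPos (α := G) Nat.card_pos.ne').symm.mulEquiv

theorem idx_of_congr {G H : Type} [Group G] [Finite G] [Group H] [Finite H] (e : G ≃* H) :
    Idx.of G = Idx.of H :=
  Quotient.sound ⟨(ofEquiv G).trans (e.trans (ofEquiv H).symm)⟩

theorem idx_of_rep (i : Idx) : Idx.of i.rep = i :=
  (Quotient.sound ⟨ofEquiv i.rep⟩ : Idx.of i.rep = Quotient.mk _ (Quotient.out (s := FinGrp.setoid) i)).trans
    (Quotient.out_eq i)

theorem nonempty_rep_equiv (G : Type) [Group G] [Finite G] : Nonempty ((Idx.of G).rep ≃* G) := by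
  obtain ⟨e⟩ := Quotient.exact (Quotient.out_eq (Idx.of G))
  exact ⟨e.trans (ofEquiv G)⟩

theorem cl_congr {G H : Type} [Group G] [Finite G] [Group H] [Finite H] (e : G ≃* H) :
    cl G = cl H := congrArg (fun i => Finsupp.single i (1 : ℚ)) (idx_of_congr e)

theorem single_eq_smul_cl (i : Idx) (c : ℚ) : Finsupp.single i c = c • cl i.rep := by
  rw [cl, idx_of_rep, Finsupp.smul_single, smul_eq_mul, mul_one]

instance instFiniteCommTuple (G : Type) [Group G] [Finite G] (r : ℕ) : Finite (CommTuple G r) :=
  inferInstanceAs (Finite {s : Fin r → G // Function.Injective s ∧ ∀ i j, Commute (s i) (s j)})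

/-- The weighted class of the centralizer of a set. -/
noncomputable def F (G : Type) [Group G] [Finite G] (A : Set G) : K :=
  ((Nat.card (Subgroup.centralizer A) : ℚ) / (Nat.card G : ℚ)) • cl (Subgroup.centralizer A)

theorem F_congr {G : Type} [Group G] [Finite G] {A B : Set G}
    (h : Subgroup.centralizer A = Subgroup.centralizer B) : F G A = F G B := by
  unfold F
  rw [cl_congr (MulEquiv.subgroupCongr h), h]

variable {G : Type} [Group G]

/-- Conjugation on tuples. -/
@[reducible] def conjAct (G : Type) [Group G] (r : ℕ) : MulAction G (CommTuple G r) where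
  smul g S := ⟨fun i => g * S.1 i * g⁻¹,
    (MulAut.conj g).injective.comp S.2.1, fun i j => (S.2.2 i j).map (MulAut.conj g)⟩
  one_smul S := Subtype.ext (funext fun i => show (1 : G) * S.1 i * 1⁻¹ = S.1 i by group)
  mul_smul g h S := Subtype.ext (funext fun i =>
    show g * h * S.1 i * (g * h)⁻¹ = g * (h * S.1 i * h⁻¹) * g⁻¹ by group)

theorem inertiaROf_eq [Finite G] (r : ℕ) :
    inertiaROf r G = ∑ᶠ S : CommTuple G r, F G (Set.range S.1) := by
  classical
  let _ := conjAct G r
  have hstab : ∀ S : CommTuple G r,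
      MulAction.stabilizer G S = Subgroup.centralizer (Set.range S.1) := by
    intro S
    ext g
    rw [MulAction.mem_stabilizer_iff, Subgroup.mem_centralizer_iff]
    constructor
    · rintro h _ ⟨i, rfl⟩
      have h' : g * S.1 i * g⁻¹ = S.1 i := congrFun (congrArg Subtype.val h) i
      calc S.1 i * g = g * S.1 i * g⁻¹ * g := by rw [h']
        _ = g * S.1 i := by group
    · intro h
      refine Subtype.ext (funext fun i => ?_)
      show g * S.1 i * g⁻¹ = S.1 i
      rw [← h _ ⟨i, rfl⟩]; group
  let _ := Fintype.ofFinite (CommTuple G r)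
  have : Finite (Quotient (CommTuple.setoid G r)) :=
    Finite.of_surjective (Quotient.mk (CommTuple.setoid G r)) Quotient.mk_surjective
  let _ := Fintype.ofFinite (Quotient (CommTuple.setoid G r))
  show (∑ᶠ O : Quotient (CommTuple.setoid G r),
    cl (Subgroup.centralizer (Set.range (Quotient.out (s := CommTuple.setoid G r) O).1))) = _
  rw [finsum_eq_sum_of_fintype, finsum_eq_sum_of_fintype,
    ← Finset.sum_fiberwise Finset.univ (Quotient.mk (CommTuple.setoid G r))
      (fun S : CommTuple G r => F G (Set.range S.1))]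
  refine Finset.sum_congr rfl fun O _ => ?_
  set S₀ := Quotient.out (s := CommTuple.setoid G r) O
  have hO : ∀ S : CommTuple G r, Quotient.mk (CommTuple.setoid G r) S = O ↔ S ∈ MulAction.orbit G S₀ := by
    intro S
    rw [← Quotient.out_eq O]
    constructor
    · intro h
      obtain ⟨g, hg⟩ := Quotient.exact h.symm
      exact ⟨g, Subtype.ext (funext hg)⟩
    · rintro ⟨g, rfl⟩
      exact (Quotient.sound (s := CommTuple.setoid G r) (a := S₀) (b := g • S₀) ⟨g, fun i => rfl⟩).symm
  have hconst : ∀ S ∈ Finset.univ.filter (fun S => Quotient.mk (CommTuple.setoid G r) S = O),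
      F G (Set.range S.1) = F G (Set.range S₀.1) := by
    intro S hS
    obtain ⟨g, rfl⟩ := (hO S).1 (Finset.mem_filter.1 hS).2
    have e : Subgroup.centralizer (Set.range (g • S₀).1) ≃* Subgroup.centralizer (Set.range S₀.1) :=
      ((MulEquiv.subgroupCongr (hstab (g • S₀)).symm).trans
        (MulAction.stabilizerEquivStabilizer (g := g) (a := S₀) (b := g • S₀) rfl).symm).trans
        (MulEquiv.subgroupCongr (hstab S₀))
    unfold F
    rw [Nat.card_congr e.toEquiv, cl_congr e]
  rw [Finset.sum_congr rfl hconst, Finset.sum_const]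
  have hcard : (Finset.univ.filter (fun S => Quotient.mk (CommTuple.setoid G r) S = O)).card *
      Nat.card (Subgroup.centralizer (Set.range S₀.1)) = Nat.card G := by
    rw [← hstab, ← Subgroup.index_mul_card (MulAction.stabilizer G S₀), MulAction.index_stabilizer]
    congr 1
    rw [← Set.ncard_coe_finset]
    congr 1
    ext S
    simp [hO]
  unfold F
  rw [← Nat.cast_smul_eq_nsmul ℚ, smul_smul, mul_div_assoc', ← Nat.cast_mul, hcard,
    div_self (by exact_mod_cast Nat.card_pos.ne'), one_smul]

theorem F_map {H : Type} [Group H] [Finite G] [Finite H] (e : G ≃* H) (A : Set G) :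
    F H (e '' A) = F G A := by
  have h : Subgroup.centralizer (e '' A) = (Subgroup.centralizer A).map e.toMonoidHom := by
    ext x
    show x ∈ Subgroup.centralizer (e '' A) ↔ x ∈ (Subgroup.centralizer A).map e.toMonoidHom
    refine Iff.trans ?_ (Subgroup.mem_map_equiv (f := e)).symm
    rw [Subgroup.mem_centralizer_iff, Subgroup.mem_centralizer_iff]
    constructor
    · intro h a ha
      have := congrArg e.symm (h (e a) ⟨a, ha, rfl⟩)
      simpa using this
    · rintro h _ ⟨a, ha, rfl⟩
      have := congrArg e (h a ha)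
      simpa using this
  have e' : Subgroup.centralizer A ≃* Subgroup.centralizer (e '' A) :=
    (e.subgroupMap _).trans (MulEquiv.subgroupCongr h.symm)
  unfold F
  rw [← Nat.card_congr e'.toEquiv, ← Nat.card_congr e.toEquiv, cl_congr e']

theorem inertiaROf_congr [Finite G] {H : Type} [Group H] [Finite H] (e : G ≃* H) (r : ℕ) :
    inertiaROf r G = inertiaROf r H := by
  rw [inertiaROf_eq, inertiaROf_eq]
  let E : CommTuple G r ≃ CommTuple H r :=
    { toFun := fun S => ⟨e ∘ S.1, e.injective.comp S.2.1, fun i j => (S.2.2 i j).map e⟩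
      invFun := fun S => ⟨e.symm ∘ S.1, e.symm.injective.comp S.2.1, fun i j => (S.2.2 i j).map e.symm⟩
      left_inv := fun S => Subtype.ext (funext fun i => e.symm_apply_apply _)
      right_inv := fun S => Subtype.ext (funext fun i => e.apply_symm_apply _) }
  refine finsum_eq_of_bijective E E.bijective fun S => ?_
  show F G (Set.range S.1) = F H (Set.range (e ∘ S.1))
  rw [Set.range_comp, F_map]

variable [Finite G]

theorem inertiaR_cl (r : ℕ) : inertiaR r (cl G) = ∑ᶠ S : CommTuple G r, F G (Set.range S.1) := by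
  obtain ⟨e⟩ := nonempty_rep_equiv G
  rw [inertiaR, cl, Finsupp.linearCombination_single, one_smul, inertiaROf_congr e, inertiaROf_eq]

theorem inertia_cl : inertia (cl G) = ∑ᶠ q : G, F G {q} := by
  rw [inertiaR_cl]
  let E : CommTuple G 1 ≃ G :=
    { toFun := fun S => S.1 0
      invFun := fun q => ⟨fun _ => q, fun i j _ => Subsingleton.elim i j, fun _ _ => Commute.refl q⟩
      left_inv := fun S => Subtype.ext (funext fun i => congrArg S.1 (Subsingleton.elim _ _))
      right_inv := fun q => rfl }
  refine finsum_eq_of_bijective E E.bijective fun S => ?_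
  show F G (Set.range S.1) = F G {S.1 0}
  rw [Set.range_unique]; rfl

theorem inertia_F (A : Set G) :
    inertia (F G A) = ∑ᶠ q : Subgroup.centralizer A, F G (insert (q : G) A) := by
  conv_lhs => rw [F, map_smul, inertia_cl, smul_finsum]
  refine finsum_congr fun q => ?_
  have hle : Subgroup.centralizer (insert (q : G) A) ≤ Subgroup.centralizer A :=
    Subgroup.centralizer_le (Set.subset_insert _ _)
  have h : Subgroup.centralizer ({q} : Set (Subgroup.centralizer A)) = (Subgroup.centralizer (insert (q : G) A)).subgroupOf (Subgroup.centralizer A) := by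
    ext x
    simp only [Subgroup.mem_subgroupOf, Subgroup.mem_centralizer_iff, Set.mem_insert_iff,
      Set.mem_singleton_iff, forall_eq_or_imp, forall_eq]
    exact ⟨fun h => ⟨congrArg Subtype.val h, Subgroup.mem_centralizer_iff.1 x.2⟩,
      fun h => Subtype.ext h.1⟩
  have e := (MulEquiv.subgroupCongr h).trans (Subgroup.subgroupOfEquivOfLe hle)
  unfold F
  rw [Nat.card_congr e.toEquiv, cl_congr e, smul_smul]
  congr 1
  have : (Nat.card (Subgroup.centralizer A) : ℚ) ≠ 0 := by exact_mod_cast Nat.card_pos.ne'
  field_simp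

theorem inertia_inertiaR_cl (r : ℕ) :
    inertia (inertiaR r (cl G)) = inertiaR (r + 1) (cl G) + (r : ℚ) • inertiaR r (cl G) := by
  classical
  let _ := Fintype.ofFinite G
  let _ := Fintype.ofFinite (CommTuple G r)
  let _ := Fintype.ofFinite (CommTuple G (r + 1))
  rw [inertiaR_cl, inertiaR_cl, finsum_eq_sum_of_fintype, finsum_eq_sum_of_fintype, map_sum,
    Finset.smul_sum]
  have hin : ∀ S : CommTuple G r, inertia (F G (Set.range S.1)) =
      ∑ q ∈ Finset.univ.filter (fun q => q ∈ Subgroup.centralizer (Set.range S.1)),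
        F G (insert q (Set.range S.1)) := by
    intro S
    rw [inertia_F, finsum_eq_sum_of_fintype]
    exact (Finset.sum_subtype (p := fun q => q ∈ Subgroup.centralizer (Set.range S.1))
      (Finset.univ.filter _) (by simp) (fun q => F G (insert q (Set.range S.1)))).symm
  have hsplit : ∀ S : CommTuple G r, inertia (F G (Set.range S.1)) =
      (∑ q ∈ Finset.univ.filter (fun q => q ∈ Subgroup.centralizer (Set.range S.1) ∧ q ∉ Set.range S.1),
        F G (insert q (Set.range S.1))) + (r : ℚ) • F G (Set.range S.1) := by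
    intro S
    rw [hin, ← Finset.sum_filter_add_sum_filter_not _ (fun q => q ∈ Set.range S.1), add_comm,
      Finset.filter_filter]
    congr 1
    have hset : (Finset.univ.filter (fun q => q ∈ Subgroup.centralizer (Set.range S.1))).filter
        (fun q => q ∈ Set.range S.1) = Finset.univ.image S.1 := by
      ext q
      simp only [Finset.mem_filter, Finset.mem_univ, true_and, Finset.mem_image, Set.mem_range]
      refine ⟨fun h => h.2, fun ⟨i, hi⟩ => ⟨?_, i, hi⟩⟩
      rw [Subgroup.mem_centralizer_iff, ← hi]
      rintro _ ⟨j, rfl⟩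
      exact S.2.2 j i
    rw [hset, Finset.sum_image fun i _ j _ h => S.2.1 h,
      Finset.sum_congr rfl fun i _ => F_congr (A := insert (S.1 i) (Set.range S.1)) (B := Set.range S.1)
        (by rw [Set.insert_eq_of_mem (Set.mem_range_self i)]),
      Finset.sum_const, Finset.card_univ, Fintype.card_fin, Nat.cast_smul_eq_nsmul]
  rw [Finset.sum_congr rfl fun S _ => hsplit S, Finset.sum_add_distrib]
  congr 1
  rw [Finset.sum_sigma']
  have hT : ∀ T : CommTuple G (r + 1), Function.Injective (Fin.init T.1) ∧
      ∀ i j, Commute (Fin.init T.1 i) (Fin.init T.1 j) := fun T =>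
    ⟨T.2.1.comp (Fin.castSucc_injective r), fun i j => T.2.2 _ _⟩
  refine Finset.sum_bij'
    (fun x hx => (⟨Fin.snoc x.1.1 x.2, ?_, ?_⟩ : CommTuple G (r + 1)))
    (fun T _ => (⟨⟨Fin.init T.1, hT T⟩, T.1 (Fin.last r)⟩ : Σ _ : CommTuple G r, G))
    (fun x hx => Finset.mem_univ _) ?_ ?_ ?_ ?_
  · exact Fin.snoc_injective_of_injective x.1.2.1 (by simpa using (Finset.mem_filter.1 (Finset.mem_sigma.1 hx).2).2.2)
  · have hc := Subgroup.mem_centralizer_iff.1 (Finset.mem_filter.1 (Finset.mem_sigma.1 hx).2).2.1
    intro i j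
    induction i using Fin.lastCases with
    | last =>
      induction j using Fin.lastCases with
      | last => exact Commute.refl _
      | cast j => simpa [Commute, SemiconjBy] using (hc (x.1.1 j) ⟨j, rfl⟩).symm
    | cast i =>
      induction j using Fin.lastCases with
      | last => simpa [Commute, SemiconjBy] using hc (x.1.1 i) ⟨i, rfl⟩
      | cast j => simpa using x.1.2.2 i j
  · intro T _
    refine Finset.mem_sigma.2 ⟨Finset.mem_univ _, Finset.mem_filter.2 ⟨Finset.mem_univ _, ?_, ?_⟩⟩
    · rw [Subgroup.mem_centralizer_iff]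
      rintro _ ⟨i, rfl⟩
      exact T.2.2 _ _
    · rintro ⟨i, hi⟩
      exact (Fin.castSucc_ne_last i) (T.2.1 hi)
  · rintro ⟨S, q⟩ hx
    simp only [Fin.init_snoc, Fin.snoc_last]
    rfl
  · intro T _
    exact Subtype.ext (Fin.snoc_init_self T.1)
  · rintro ⟨S, q⟩ hx
    rw [Fin.range_snoc]

theorem inertiaR_zero : inertiaR 0 = 1 := by
  refine Finsupp.lhom_ext fun i c => ?_
  rw [single_eq_smul_cl, map_smul, Module.End.one_apply, inertiaR_cl]
  congr 1
  let S₀ : CommTuple i.rep 0 := ⟨Fin.elim0, fun a => a.elim0, fun a => a.elim0⟩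
  rw [finsum_eq_single _ S₀ fun S hS => absurd (Subtype.ext (funext fun a => a.elim0)) hS, F]
  have htop : Subgroup.centralizer (Set.range S₀.1) = ⊤ := by
    ext x; simp [Subgroup.mem_centralizer_iff]
  rw [cl_congr ((MulEquiv.subgroupCongr htop).trans Subgroup.topEquiv), htop, Subgroup.card_top,
    div_self (by exact_mod_cast Nat.card_pos.ne'), one_smul]

theorem inertiaR_succ_apply (r : ℕ) (v : K) :
    inertiaR (r + 1) v = inertia (inertiaR r v) - (r : ℚ) • inertiaR r v := by
  suffices h : inertiaR (r + 1) = inertia ∘ₗ inertiaR r - (r : ℚ) • inertiaR r by rw [h]; rfl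
  refine Finsupp.lhom_ext fun i c => ?_
  rw [single_eq_smul_cl, map_smul, map_smul]
  congr 1
  simp [inertia_inertiaR_cl]

theorem inertiaR_eq_aeval (r : ℕ) :
    inertiaR r = Polynomial.aeval inertia (descPochhammer ℚ r) := by
  induction r with
  | zero => rw [descPochhammer_zero, map_one, inertiaR_zero]
  | succ r ih =>
    rw [descPochhammer_succ_right, mul_comm, map_mul, ← ih]
    refine LinearMap.ext fun v => ?_
    rw [Module.End.mul_apply, inertiaR_succ_apply]
    simp [Nat.cast_smul_eq_nsmul]

theorem inertiaR_eigen {μ : ℚ} {v : K} (hv : v ∈ Module.End.eigenspace inertia μ) (r : ℕ) :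
    inertiaR r v = (descPochhammer ℚ r).eval μ • v := by
  induction r with
  | zero => simp [inertiaR_zero]
  | succ r ih =>
    rw [inertiaR_succ_apply, ih, map_smul, Module.End.mem_eigenspace_iff.1 hv,
      descPochhammer_succ_right]
    simp only [Polynomial.eval_mul, Polynomial.eval_sub, Polynomial.eval_X, Polynomial.eval_natCast,
      smul_smul]
    rw [← sub_smul]
    congr 1; ring

theorem descPochhammer_eval_nat (k r : ℕ) :
    (descPochhammer ℚ r).eval (k : ℚ) = ((r.factorial * k.choose r : ℕ) : ℚ) := by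
  rw [descPochhammer_eval_eq_descFactorial, Nat.descFactorial_eq_factorial_mul_choose]

theorem inertia_cl_sub_mem :
    inertia (cl G) - (Nat.card (Subgroup.center G) : ℚ) • cl G ∈
      Kge (Nat.card (Subgroup.center G) + 1) := by
  classical
  let _ := Fintype.ofFinite G
  rw [inertia_cl, finsum_eq_sum_of_fintype,
    ← Finset.sum_filter_add_sum_filter_not _ (fun q => q ∈ Subgroup.center G)]
  have h1 : ∀ q ∈ Finset.univ.filter (fun q => q ∈ Subgroup.center G), F G {q} = cl G := by
    intro q hq
    have htop : Subgroup.centralizer ({q} : Set G) = ⊤ :=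
      Subgroup.centralizer_eq_top_iff_subset.2 (by simpa using hq)
    rw [F, cl_congr ((MulEquiv.subgroupCongr htop).trans Subgroup.topEquiv), htop, Subgroup.card_top,
      div_self (by exact_mod_cast Nat.card_pos.ne'), one_smul]
  rw [Finset.sum_congr rfl h1, Finset.sum_const, ← Nat.cast_smul_eq_nsmul ℚ,
    show (Finset.univ.filter (fun q => q ∈ Subgroup.center G)).card = Nat.card (Subgroup.center G) by
      rw [Nat.card_eq_fintype_card, Fintype.card_subtype],
    add_sub_cancel_left]
  refine Submodule.sum_mem _ fun q hq => Submodule.smul_mem _ _ ?_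
  set C := Subgroup.centralizer ({q} : Set G)
  have hqC : q ∈ C := Subgroup.mem_centralizer_iff.2 fun a ha => by rw [Set.mem_singleton_iff.1 ha]
  have hZ : Nat.card (Subgroup.center G) < Nat.card (Subgroup.center C) := by
    have hzC : Subgroup.center G ≤ C := Subgroup.center_le_centralizer _
    rw [Nat.card_eq_fintype_card, Nat.card_eq_fintype_card]
    refine Fintype.card_lt_of_injective_of_notMem
      (fun z : Subgroup.center G => (⟨⟨z.1, hzC z.2⟩, ?_⟩ : Subgroup.center C))
      (fun a b hab => Subtype.ext (congrArg (fun z : Subgroup.center C => ((z : C) : G)) hab))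
      (b := ⟨⟨q, hqC⟩, ?_⟩) ?_
    · exact Subgroup.mem_center_iff.2 fun g => Subtype.ext (Subgroup.mem_center_iff.1 z.2 g)
    · exact Subgroup.mem_center_iff.2 fun g =>
        Subtype.ext (Subgroup.mem_centralizer_iff.1 g.2 q rfl).symm
    · rintro ⟨⟨z, hzc⟩, hz⟩
      have h2 : z = q := congrArg (fun z : Subgroup.center C => ((z : C) : G)) hz
      subst h2
      exact (Finset.mem_filter.1 hq).2 hzc
  obtain ⟨e⟩ := nonempty_rep_equiv C
  refine Finsupp.single_mem_supported ℚ 1 ?_
  show Nat.card (Subgroup.center G) + 1 ≤ Nat.card (Subgroup.center (Idx.of C).rep)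
  rw [Nat.card_congr (Subgroup.centerCongr e).toEquiv]
  omega

end Groth.Agent.Inertia
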