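import Groth.Agent.Inertia.Basic

/-! Spectral theory of the inertia operator. -/

open W4c5stacksedinertia

namespace Groth.Agent.Inertia

/-- The coefficient of `I_r` in the `k`-th projection. -/
noncomputable def coef (r k : ℕ) : ℚ :=
  ((-1 : ℚ) ^ (r + k)) / (Nat.factorial r : ℚ) * (Nat.choose r k : ℚ)

theorem coef_rec (r k : ℕ) : coef r k + (((r + 1 : ℕ) : ℚ) - k) * coef (r + 1) k = 0 := by
  unfold coef
  rcases le_or_gt k (r + 1) with h | h
  · have h1 : (Nat.choose r k : ℚ) * ((r : ℚ) + 1) = (Nat.choose (r + 1) k : ℚ) * (((r + 1 : ℕ) : ℚ) - k) := by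
      rw [← Nat.cast_sub h]
      exact_mod_cast congrArg (fun n : ℕ => n) (Nat.choose_mul_succ_eq r k)
    have hf : (Nat.factorial r : ℚ) ≠ 0 := by exact_mod_cast (Nat.factorial_pos r).ne'
    have hr : (r : ℚ) + 1 ≠ 0 := by positivity
    rw [show r + 1 + k = (r + k) + 1 by ring, pow_succ, Nat.factorial_succ]
    push_cast at h1 ⊢
    have h2 : (Nat.choose (r + 1) k : ℚ) * ((r : ℚ) + 1 - k) / (((r : ℚ) + 1) * (Nat.factorial r : ℚ)) =
        (Nat.choose r k : ℚ) / (Nat.factorial r : ℚ) := by
      rw [div_eq_div_iff (mul_ne_zero hr hf) hf]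
      linear_combination -(Nat.factorial r : ℚ) * h1
    linear_combination (-((-1 : ℚ) ^ (r + k))) * h2
  · rw [Nat.choose_eq_zero_of_lt (show r < k by omega), Nat.choose_eq_zero_of_lt h]
    simp

/-- The `k`-th projection, truncated at `N`. -/
noncomputable def proj (N k : ℕ) (v : K) : K :=
  ∑ r ∈ Finset.range N, coef r k • inertiaR r v

theorem inertiaR_eq_zero_of_le {n m : ℕ} {v : K} (h : inertiaR n v = 0) (hm : n ≤ m) :
    inertiaR m v = 0 := by
  induction m, hm using Nat.le_induction with
  | base => exact h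
  | succ m _ ih => rw [inertiaR_succ_apply, ih, map_zero, smul_zero, sub_zero]

theorem proj_mem {N : ℕ} {v : K} (h : inertiaR N v = 0) (k : ℕ) :
    proj N k v ∈ Module.End.eigenspace inertia (k : ℚ) := by
  rw [Module.End.mem_eigenspace_iff]
  have key : ∀ n, inertia (proj n k v) - (k : ℚ) • proj n k v =
      -((((n : ℚ) - k) * coef n k) • inertiaR n v) := by
    intro n
    induction n with
    | zero =>
      have h0 : ((0 : ℕ) : ℚ) - k = 0 ∨ coef 0 k = 0 := by
        rcases Nat.eq_zero_or_pos k with hk | hk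
        · left; simp [hk]
        · right; simp [coef, Nat.choose_eq_zero_of_lt hk]
      rw [mul_eq_zero.2 h0]
      simp [proj]
    | succ n ih =>
      have hI : inertia (inertiaR n v) = inertiaR (n + 1) v + (n : ℚ) • inertiaR n v :=
        sub_eq_iff_eq_add.1 (inertiaR_succ_apply n v).symm
      have hn : (((n + 1 : ℕ) : ℚ) - k) * coef (n + 1) k = - coef n k := by
        linear_combination coef_rec n k
      simp only [proj] at ih ⊢
      rw [Finset.sum_range_succ, map_add, map_smul, smul_add, add_sub_add_comm, ih, hI, hn]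
      module
  have := key N
  rwa [h, smul_zero, neg_zero, sub_eq_zero] at this

theorem sum_coef (r N : ℕ) (hr : r < N) : ∑ k ∈ Finset.range N, coef r k = if r = 0 then 1 else 0 := by
  rw [← Finset.sum_subset (Finset.range_mono (Nat.succ_le_of_lt hr))
    (fun k _ hk => by
      simp only [Finset.mem_range, not_lt] at hk
      simp [coef, Nat.choose_eq_zero_of_lt (show r < k by omega)])]
  unfold coef
  have h := congrArg (Int.cast (R := ℚ)) (Int.alternating_sum_range_choose (n := r))
  push_cast at h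
  rw [show (∑ k ∈ Finset.range (r + 1), ((-1 : ℚ) ^ (r + k)) / (Nat.factorial r : ℚ) * (Nat.choose r k : ℚ)) =
    ((-1 : ℚ) ^ r / (Nat.factorial r : ℚ)) * ∑ k ∈ Finset.range (r + 1), (-1 : ℚ) ^ k * (Nat.choose r k : ℚ) by
      rw [Finset.mul_sum]; exact Finset.sum_congr rfl fun k _ => by rw [pow_add]; ring, h]
  split_ifs with h0
  · subst h0; simp
  · simp

theorem sum_proj {N : ℕ} {v : K} (h : inertiaR N v = 0) :
    ∑ k ∈ Finset.range N, proj N k v = v := by
  rcases Nat.eq_zero_or_pos N with rfl | hN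
  · rw [inertiaR_zero] at h
    simpa using h.symm
  simp only [proj]
  rw [Finset.sum_comm]
  simp only [← Finset.sum_smul]
  rw [Finset.sum_congr rfl fun r hr => by rw [sum_coef r N (Finset.mem_range.1 hr)]]
  simp [ite_smul, inertiaR_zero, hN]

theorem exists_bound (v : K) : ∃ N, inertiaR N v = 0 := by
  classical
  refine ⟨(v.support.sup fun i => Nat.card i.rep) + 1, ?_⟩
  conv_lhs => arg 2; rw [← Finsupp.sum_single v]
  rw [Finsupp.sum, map_sum]
  refine Finset.sum_eq_zero fun i hi => ?_
  rw [single_eq_smul_cl, map_smul, inertiaR_cl]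
  have : IsEmpty (CommTuple i.rep ((v.support.sup fun i => Nat.card i.rep) + 1)) :=
    ⟨fun S => by
      have h1 := Nat.card_le_card_of_injective S.1 S.2.1
      rw [Nat.card_fin] at h1
      have h2 : Nat.card i.rep ≤ v.support.sup (fun i => Nat.card i.rep) := Finset.le_sup (f := fun i => Nat.card i.rep) hi
      omega⟩
  rw [finsum_of_isEmpty, smul_zero]

theorem supported_cl {G : Type} [Group G] [Finite G] :
    cl G ∈ Kge (Nat.card (Subgroup.center G)) := by
  obtain ⟨e⟩ := nonempty_rep_equiv G
  refine Finsupp.single_mem_supported ℚ 1 ?_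
  show Nat.card (Subgroup.center G) ≤ Nat.card (Subgroup.center (Idx.of G).rep)
  rw [Nat.card_congr (Subgroup.centerCongr e).toEquiv]

theorem Kge_anti {a b : ℕ} (h : a ≤ b) : Kge b ≤ Kge a :=
  Finsupp.supported_mono fun i (hi : b ≤ i.centerCard) => le_trans h hi

theorem inertia_sub_mem {k : ℕ} {v : K} (hv : v ∈ Kge k) :
    inertia v - (k : ℚ) • v ∈ Kge (k + 1) := by
  classical
  rw [← Finsupp.sum_single v, Finsupp.sum, map_sum, Finset.smul_sum, ← Finset.sum_sub_distrib]
  refine Submodule.sum_mem _ fun i hi => ?_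
  have hki : k ≤ Nat.card (Subgroup.center i.rep) :=
    Finsupp.mem_supported _ _ |>.1 hv (Finset.mem_coe.2 hi)
  rw [single_eq_smul_cl, map_smul, smul_comm (k : ℚ), ← smul_sub]
  refine Submodule.smul_mem _ _ ?_
  have h1 := inertia_cl_sub_mem (G := i.rep)
  rcases hki.eq_or_lt with heq | hlt
  · rw [← heq] at h1; exact h1
  · have h2 := Kge_anti (show k + 1 ≤ _ from hlt) (supported_cl (G := i.rep))
    have h3 := Kge_anti (show k + 1 ≤ _ from (Nat.lt_succ_of_lt hlt)) h1
    have := add_mem h3 ((Kge (k + 1)).smul_mem (((Nat.card (Subgroup.center i.rep) : ℚ)) - k) h2)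
    convert this using 1
    module

theorem inertiaR_sub_mem (r k : ℕ) {v : K} (hv : v ∈ Kge k) :
    inertiaR r v - ((descPochhammer ℚ r).eval (k : ℚ)) • v ∈ Kge (k + 1) := by
  induction r with
  | zero => simp [inertiaR_zero]
  | succ r ih =>
    have h1 : inertia (inertiaR r v - ((descPochhammer ℚ r).eval (k : ℚ)) • v) ∈ Kge (k + 1) := by
      have := add_mem (Kge_anti (Nat.le_succ _) (inertia_sub_mem ih))
        ((Kge (k + 1)).smul_mem ((k + 1 : ℕ) : ℚ) ih)
      rwa [sub_add_cancel] at this
    have h2 := (Kge (k + 1)).smul_mem ((descPochhammer ℚ r).eval (k : ℚ)) (inertia_sub_mem hv)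
    have := sub_mem (add_mem h1 h2) ((Kge (k + 1)).smul_mem (r : ℚ) ih)
    convert this using 1
    rw [inertiaR_succ_apply r v, descPochhammer_succ_right, map_sub, map_smul]
    simp only [Polynomial.eval_mul, Polynomial.eval_sub, Polynomial.eval_X, Polynomial.eval_natCast]
    module

theorem inertia_injective {v : K} (h : inertia v = 0) : v = 0 := by
  classical
  by_contra hv
  obtain ⟨i, hi, hmin⟩ := v.support.exists_min_image Idx.centerCard (Finsupp.support_nonempty_iff.2 hv)
  have hvk : v ∈ Kge i.centerCard :=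
    (Finsupp.mem_supported _ _).2 fun j hj => hmin j (Finset.mem_coe.1 hj)
  have h1 := inertia_sub_mem hvk
  rw [h, zero_sub, neg_mem_iff] at h1
  have h0 : (i.centerCard : ℚ) ≠ 0 := by
    exact_mod_cast (show 0 < Nat.card (Subgroup.center i.rep) from Nat.card_pos).ne'
  have h2 := (Kge _).smul_mem (i.centerCard : ℚ)⁻¹ h1
  rw [inv_smul_smul₀ h0] at h2
  have h3 := (Finsupp.mem_supported _ _).1 h2 (Finset.mem_coe.2 hi)
  exact absurd (show i.centerCard + 1 ≤ i.centerCard from h3) (by omega)

theorem eigenvector_exists {n : ℕ} (hn : 0 < n) :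
    ∃ v ∈ Module.End.eigenspace inertia (n : ℚ), v ≠ 0 := by
  classical
  have : NeZero n := ⟨hn.ne'⟩
  let G := Multiplicative (ZMod n)
  have hcard : Nat.card (Subgroup.center G) = n := by
    rw [CommGroup.center_eq_top, Subgroup.card_top]
    simp [G]
  obtain ⟨N, hN⟩ := exists_bound (cl G)
  have hN' := inertiaR_eq_zero_of_le hN (le_max_left N (n + 1))
  refine ⟨_, proj_mem hN' n, fun h0 => ?_⟩
  have hG : cl G ∈ Kge n := by
    have := supported_cl (G := G)
    rwa [hcard] at this
  have hmem : proj (max N (n + 1)) n (cl G) - cl G ∈ Kge (n + 1) := by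
    have hsum : ∑ r ∈ Finset.range (max N (n + 1)), coef r n * (descPochhammer ℚ r).eval (n : ℚ) = 1 := by
      rw [Finset.sum_eq_single n]
      · rw [descPochhammer_eval_nat, coef, Nat.choose_self, ← two_mul, pow_mul]
        push_cast
        field_simp
        norm_num
      · intro r _ hr
        rcases Nat.lt_or_ge r n with h | h
        · simp [coef, Nat.choose_eq_zero_of_lt h]
        · rw [descPochhammer_eval_nat, Nat.choose_eq_zero_of_lt (show n < r by omega)]
          simp
      · intro h; exact absurd (Finset.mem_range.2 (by omega)) h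
    have := Submodule.sum_mem (Kge (n + 1)) fun r (_ : r ∈ Finset.range (max N (n + 1))) =>
      (Kge (n + 1)).smul_mem (coef r n) (inertiaR_sub_mem r n hG)
    simp only [smul_sub, smul_smul, Finset.sum_sub_distrib, ← Finset.sum_smul, hsum, one_smul] at this
    exact this
  rw [h0, zero_sub, neg_mem_iff] at hmem
  have h3 := (Finsupp.mem_supported _ _).1 hmem
    (show Idx.of G ∈ ((cl G).support : Set Idx) by simp [cl])
  obtain ⟨e⟩ := nonempty_rep_equiv G
  have h4 : n + 1 ≤ Nat.card (Subgroup.center (Idx.of G).rep) := h3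
  rw [Nat.card_congr (Subgroup.centerCongr e).toEquiv, hcard] at h4
  omega

theorem iSup_eq_top : (⨆ n : ℕ, Module.End.eigenspace inertia (n : ℚ)) = ⊤ := by
  refine eq_top_iff.2 fun v _ => ?_
  obtain ⟨N, hN⟩ := exists_bound v
  rw [← sum_proj hN]
  exact Submodule.sum_mem _ fun k _ => Submodule.mem_iSup_of_mem k (proj_mem hN k)

theorem hasEigenvalue_iff (μ : ℚ) :
    Module.End.HasEigenvalue inertia μ ↔ ∃ n : ℕ, 0 < n ∧ μ = (n : ℚ) := by
  constructor
  · intro h
    obtain ⟨v, hv, hv0⟩ := h.exists_hasEigenvector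
    obtain ⟨N, hN⟩ := exists_bound v
    rw [inertiaR_eigen hv, smul_eq_zero] at hN
    have hev : (descPochhammer ℚ N).eval μ = 0 := hN.resolve_right hv0
    clear hN
    induction N with
    | zero => simp at hev
    | succ N ih =>
      rw [descPochhammer_succ_right] at hev
      simp only [Polynomial.eval_mul, Polynomial.eval_sub, Polynomial.eval_X, Polynomial.eval_natCast,
        mul_eq_zero, sub_eq_zero] at hev
      rcases hev with h1 | h1
      · exact ih h1
      · refine ⟨N, Nat.pos_of_ne_zero fun h0 => hv0 ?_, h1⟩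
        subst h0
        refine inertia_injective ?_
        rw [Module.End.mem_eigenspace_iff.1 hv, h1]
        simp
  · rintro ⟨n, hn, rfl⟩
    obtain ⟨v, hv, hv0⟩ := eigenvector_exists hn
    exact Module.End.hasEigenvalue_of_hasEigenvector ⟨hv, hv0⟩

theorem ker_inertiaR (r : ℕ) :
    LinearMap.ker (inertiaR r) = ⨆ k ∈ Finset.range r, Module.End.eigenspace inertia (k : ℚ) := by
  apply le_antisymm
  · intro v hv
    rw [LinearMap.mem_ker] at hv
    rw [← sum_proj hv]
    exact Submodule.sum_mem _ fun k hk =>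
      Submodule.mem_iSup_of_mem k (Submodule.mem_iSup_of_mem hk (proj_mem hv k))
  · refine iSup₂_le fun k hk v hv => ?_
    rw [LinearMap.mem_ker, inertiaR_eigen hv, descPochhammer_eval_nat,
      Nat.choose_eq_zero_of_lt (Finset.mem_range.1 hk)]
    simp

theorem eigenprojection (v : K) :
    (∀ k : ℕ, (∑ᶠ r : ℕ, coef r k • inertiaR r v) ∈ Module.End.eigenspace inertia (k : ℚ)) ∧
    (∑ᶠ k : ℕ, ∑ᶠ r : ℕ, coef r k • inertiaR r v) = v := by
  obtain ⟨N, hN⟩ := exists_bound v
  have hfin : ∀ k, (∑ᶠ r : ℕ, coef r k • inertiaR r v) = proj N k v := fun k =>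
    finsum_eq_sum_of_support_subset _ fun r hr => by
      rw [Finset.coe_range, Set.mem_Iio]
      by_contra h
      exact hr (by simp [inertiaR_eq_zero_of_le hN (le_of_not_gt h)])
  refine ⟨fun k => hfin k ▸ proj_mem hN k, ?_⟩
  rw [finsum_congr hfin, finsum_eq_sum_of_support_subset (s := Finset.range N) _ fun k hk => ?_]
  · exact sum_proj hN
  · rw [Finset.coe_range, Set.mem_Iio]
    by_contra h
    refine hk (Finset.sum_eq_zero fun r hr => ?_)
    rw [coef, Nat.choose_eq_zero_of_lt (show r < k by rw [Finset.mem_range] at hr; omega)]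
    simp

end Groth.Agent.Inertia
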